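import Mathlib

/-!
# Binary forms: dimension and a secant-plane count (S16515)
-/

open MvPolynomial Module

namespace Groth.Agent.Lib.Helper24.Poly

variable (K : Type*) [Field K]

/-- the exponent `(i, d - i)` -/
noncomputable def expo (d : ℕ) (i : Fin (d + 1)) : Fin 2 →₀ ℕ :=
  Finsupp.single 0 i.val + Finsupp.single 1 (d - i.val)

theorem expo_degree (d : ℕ) (i : Fin (d + 1)) : (expo d i).degree = d := by
  rw [Finsupp.degree_eq_sum, Fin.sum_univ_two]
  simp only [expo, Finsupp.add_apply, Finsupp.single_apply]
  have := i.isLt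
  simp
  omega

theorem expo_injective (d : ℕ) : Function.Injective (expo d) := by
  intro i j h
  have := DFunLike.congr_fun h 0
  simp [expo] at this
  exact Fin.ext this

theorem eq_expo {d : ℕ} {e : Fin 2 →₀ ℕ} (he : e.degree = d) :
    ∃ i : Fin (d + 1), e = expo d i := by
  rw [Finsupp.degree_eq_sum, Fin.sum_univ_two] at he
  refine ⟨⟨e 0, by omega⟩, ?_⟩
  ext j
  fin_cases j
  · simp [expo]
  · simp [expo]; omega

/-- coefficients ↦ binary form -/
noncomputable def formOf (d : ℕ) : (Fin (d + 1) → K) →ₗ[K] MvPolynomial (Fin 2) K where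
  toFun c := ∑ i, monomial (expo d i) (c i)
  map_add' c c' := by simp [Finset.sum_add_distrib]
  map_smul' a c := by
    simp only [Pi.smul_apply, smul_eq_mul, RingHom.id_apply, Finset.smul_sum]
    apply Finset.sum_congr rfl
    intro i _
    rw [smul_monomial, smul_eq_mul]

theorem coeff_formOf (d : ℕ) (c : Fin (d + 1) → K) (i : Fin (d + 1)) :
    coeff (expo d i) (formOf K d c) = c i := by
  classical
  simp only [formOf, LinearMap.coe_mk, AddHom.coe_mk, coeff_sum, coeff_monomial]
  rw [Finset.sum_eq_single i]
  · simp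
  · intro j _ hj
    rw [if_neg]
    intro h
    exact hj (expo_injective d h)
  · intro h; exact absurd (Finset.mem_univ _) h

theorem formOf_injective (d : ℕ) : Function.Injective (formOf K d) := by
  intro c c' h
  funext i
  rw [← coeff_formOf K d c i, ← coeff_formOf K d c' i, h]

theorem range_formOf (d : ℕ) :
    LinearMap.range (formOf K d) = homogeneousSubmodule (Fin 2) K d := by
  classical
  apply le_antisymm
  · rintro _ ⟨c, rfl⟩
    rw [mem_homogeneousSubmodule]
    simp only [formOf, LinearMap.coe_mk, AddHom.coe_mk]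
    apply IsHomogeneous.sum
    intro i _
    exact isHomogeneous_monomial _ (expo_degree d i)
  · intro f hf
    rw [mem_homogeneousSubmodule] at hf
    refine ⟨fun i => coeff (expo d i) f, ?_⟩
    ext e
    by_cases he : e.degree = d
    · obtain ⟨i, rfl⟩ := eq_expo he
      rw [coeff_formOf]
    · rw [hf.coeff_eq_zero he]
      have h2 : (formOf K d fun i => coeff (expo d i) f).IsHomogeneous d := by
        simp only [formOf, LinearMap.coe_mk, AddHom.coe_mk]
        apply IsHomogeneous.sum
        intro i _
        exact isHomogeneous_monomial _ (expo_degree d i)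
      exact h2.coeff_eq_zero he

theorem finrank_forms (d : ℕ) : finrank K (homogeneousSubmodule (Fin 2) K d) = d + 1 := by
  rw [← range_formOf, LinearMap.finrank_range_of_inj (formOf_injective K d), finrank_fin_fun]

instance finite_forms (d : ℕ) : Module.Finite K (homogeneousSubmodule (Fin 2) K d) := by
  rw [← range_formOf]
  infer_instance

variable {K}

theorem secant (n r k : ℕ) (hkn : k ≤ n) (hineq : (r + 1) * (n + 1) ≤ (r + 2) * k)
    (U : Submodule K (MvPolynomial (Fin 2) K))
    (hU : U ≤ homogeneousSubmodule (Fin 2) K n)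
    (hcodim : finrank K ↥U + (r + 1) = n + 1) :
    ∃ g ∈ homogeneousSubmodule (Fin 2) K k, g ≠ 0 ∧
      ∀ h ∈ homogeneousSubmodule (Fin 2) K (n - k), g * h ∈ U := by
  set Vn := homogeneousSubmodule (Fin 2) K n with hVn
  set Vk := homogeneousSubmodule (Fin 2) K k with hVk
  set Vm := homogeneousSubmodule (Fin 2) K (n - k) with hVm
  set U' : Submodule K Vn := Submodule.comap Vn.subtype U with hU'
  have hfU' : finrank K U' = finrank K U :=
    (Submodule.comapSubtypeEquivOfLe hU).finrank_eq
  have hq : finrank K (Vn ⧸ U') = r + 1 := by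
    have := Submodule.finrank_quotient_add_finrank U'
    rw [hfU', finrank_forms] at this
    omega
  have hmulmem : ∀ g ∈ Vk, ∀ h ∈ Vm, g * h ∈ Vn := by
    intro g hg h hh
    have := IsHomogeneous.mul ((mem_homogeneousSubmodule _ _).1 hg)
      ((mem_homogeneousSubmodule _ _).1 hh)
    rw [Nat.add_sub_cancel' hkn] at this
    exact this
  -- the bilinear multiplication map
  let mulMap : Vk →ₗ[K] Vm →ₗ[K] (Vn ⧸ U') :=
    LinearMap.mk₂ K (fun g h => Submodule.Quotient.mk (⟨g.1 * h.1, hmulmem _ g.2 _ h.2⟩ : Vn))
      (by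
        intro g g' h
        rw [← Submodule.Quotient.mk_add]
        congr 1
        ext1
        simp [add_mul])
      (by
        intro c g h
        rw [← Submodule.Quotient.mk_smul]
        congr 1
        ext1
        simp)
      (by
        intro g h h'
        rw [← Submodule.Quotient.mk_add]
        congr 1
        ext1
        simp [mul_add])
      (by
        intro c g h
        rw [← Submodule.Quotient.mk_smul]
        congr 1
        ext1
        simp)
  have hdimT : finrank K (Vm →ₗ[K] (Vn ⧸ U')) = (n - k + 1) * (r + 1) := by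
    rw [finrank_linearMap, finrank_forms, hq]
  have hlt : finrank K (Vm →ₗ[K] (Vn ⧸ U')) < finrank K Vk := by
    rw [hdimT, finrank_forms]
    have h1 : (n - k + 1) * (r + 1) + k * (r + 1) = (n + 1) * (r + 1) := by
      rw [← add_mul]; congr 1; omega
    nlinarith
  have hninj : ¬ Function.Injective mulMap := by
    intro hinj
    have := LinearMap.finrank_le_finrank_of_injective hinj
    omega
  rw [← LinearMap.ker_eq_bot] at hninj
  obtain ⟨g, hgker, hg0⟩ := Submodule.exists_mem_ne_zero_of_ne_bot hninj
  refine ⟨g.1, g.2, fun h0 => hg0 (Subtype.ext h0), ?_⟩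
  intro h hh
  have h1 : mulMap g ⟨h, hh⟩ = 0 := by
    rw [LinearMap.mem_ker] at hgker
    rw [hgker]; rfl
  have h2 : (⟨g.1 * h, hmulmem _ g.2 _ hh⟩ : Vn) ∈ U' :=
    (Submodule.Quotient.mk_eq_zero _).1 h1
  exact h2

end Groth.Agent.Lib.Helper24.Poly
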