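import Groth.Prelude.Def_W4c1limliniiiiRamP1
import Mathlib

/-!
# Ramification index from the Wronskian (S19560)
-/

open Polynomial

namespace Groth.Agent.Lib.Helper24.Poly

variable {k : Type*} [Field k]

/-- Wronskian of linear combinations. -/
theorem wronskian_comb (F G : k[X]) (α β γ δ : k) :
    wronskian (α • F + β • G) (γ • F + δ • G) = C (α * δ - β * γ) * wronskian F G := by
  simp only [wronskian, derivative_add, derivative_smul, map_sub, map_mul]
  simp only [smul_eq_C_mul]
  ring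

/-- local form of the Wronskian -/
theorem wronskian_local (s₀ h : k[X]) (a : k) (r : ℕ) :
    wronskian s₀ ((X - C a) ^ (r + 1) * h) = (X - C a) ^ r *
      (s₀ * (C ((r + 1 : ℕ) : k) * h + (X - C a) * derivative h)
        - derivative s₀ * ((X - C a) * h)) := by
  rw [wronskian, derivative_mul, derivative_X_sub_C_pow, Nat.add_sub_cancel, pow_succ]
  ring

theorem eval_local (s₀ h : k[X]) (a : k) (r : ℕ) :
    (s₀ * (C ((r + 1 : ℕ) : k) * h + (X - C a) * derivative h)
        - derivative s₀ * ((X - C a) * h)).eval a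
      = ((r + 1 : ℕ) : k) * (s₀.eval a * h.eval a) := by
  simp only [eval_sub, eval_mul, eval_add, eval_C, eval_X, sub_self, zero_mul, mul_zero, add_zero,
    sub_zero]
  ring

theorem main (p : ℕ) [CharP k p] (d : ℕ) (F G : k[X])
    (hV : W4c1limliniiii.IsPencil d (Submodule.span k {F, G}))
    (hW : wronskian F G ≠ 0) (a : k) (e : ℕ)
    (he : (wronskian F G).rootMultiplicity a + 1 = e) (hp : p = 0 ∨ e - 1 < p) :
    W4c1limliniiii.HasRamIdx (Submodule.span k {F, G}) a e ∧ ¬ p ∣ e := by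
  set W := wronskian F G with hWdef
  set μ := W.rootMultiplicity a with hμ
  obtain ⟨s₀, hs₀V, hs₀a⟩ := hV.2.2.2 a
  obtain ⟨α, β, hs₀⟩ := Submodule.mem_span_pair.1 hs₀V
  -- key: wronskian with a member vanishing at a
  have hK : ∀ s ∈ Submodule.span k {F, G}, s ≠ 0 → s.eval a = 0 →
      ∃ c : k, c ≠ 0 ∧ wronskian s₀ s = C c * W := by
    intro s hsV hs0 hsa
    obtain ⟨γ, δ, hs⟩ := Submodule.mem_span_pair.1 hsV
    refine ⟨α * δ - β * γ, ?_, ?_⟩
    · intro hc
      have hc' : α * δ = β * γ := sub_eq_zero.1 hc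
      have h1 : δ • s₀ = β • s := by
        rw [← hs₀, ← hs, smul_add, smul_add, smul_smul, smul_smul, smul_smul, smul_smul,
          mul_comm δ α, hc', mul_comm δ β]
      have h2 : γ • s₀ = α • s := by
        rw [← hs₀, ← hs, smul_add, smul_add, smul_smul, smul_smul, smul_smul, smul_smul,
          mul_comm γ β, ← hc', mul_comm γ α]
      have h1' := congrArg (eval a) h1
      have h2' := congrArg (eval a) h2
      rw [eval_smul, eval_smul, hsa, smul_zero, smul_eq_mul] at h1' h2'
      have hδ : δ = 0 := (mul_eq_zero.1 h1').resolve_right hs₀a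
      have hγ : γ = 0 := (mul_eq_zero.1 h2').resolve_right hs₀a
      apply hs0
      rw [← hs, hδ, hγ, zero_smul, zero_smul, add_zero]
    · rw [← hs₀, ← hs, wronskian_comb]
  -- divisibility of the Wronskian by a power
  have hdiv : ∀ s ∈ Submodule.span k {F, G}, s ≠ 0 → ∀ r : ℕ, s.rootMultiplicity a = r + 1 →
      ∃ c : k, c ≠ 0 ∧ ∃ h B : k[X], h.eval a ≠ 0 ∧ C c * W = (X - C a) ^ r * B ∧
        B.eval a = ((r + 1 : ℕ) : k) * (s₀.eval a * h.eval a) := by
    intro s hsV hs0 r hr
    obtain ⟨h, hsh, hnd⟩ := exists_eq_pow_rootMultiplicity_mul_and_not_dvd s hs0 a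
    rw [hr] at hsh
    have hha : h.eval a ≠ 0 := by
      intro h0
      exact hnd (dvd_iff_isRoot.2 h0)
    have hsa : s.eval a = 0 := by
      rw [hsh, eval_mul, eval_pow, eval_sub, eval_X, eval_C, sub_self, zero_pow (Nat.succ_ne_zero r),
        zero_mul]
    obtain ⟨c, hc, hcW⟩ := hK s hsV hs0 hsa
    refine ⟨c, hc, h, _, hha, ?_, eval_local s₀ h a r⟩
    rw [← hcW, hsh]
    exact wronskian_local s₀ h a r
  have hCW : ∀ (c : k) (hc : c ≠ 0) (n : ℕ), (X - C a) ^ n ∣ C c * W → n ≤ μ := by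
    intro c hc n hdvd
    rw [hμ, le_rootMultiplicity_iff hW]
    have hu : IsUnit (C c : k[X]) := isUnit_C.2 hc.isUnit
    exact (hu.dvd_mul_left).1 hdvd
  have hupper : ∀ s ∈ Submodule.span k {F, G}, s ≠ 0 → s.rootMultiplicity a ≤ e := by
    intro s hsV hs0
    rcases Nat.eq_zero_or_pos (s.rootMultiplicity a) with h0 | hpos
    · rw [h0]; exact Nat.zero_le _
    · obtain ⟨r, hr⟩ := Nat.exists_eq_succ_of_ne_zero hpos.ne'
      obtain ⟨c, hc, h, B, -, hcW, -⟩ := hdiv s hsV hs0 r hr
      have := hCW c hc r ⟨B, hcW⟩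
      omega
  -- a nonzero member vanishing at `a`
  set s₁ := G.eval a • F - F.eval a • G with hs₁
  have hs₁V : s₁ ∈ Submodule.span k {F, G} := by
    rw [hs₁, sub_eq_add_neg, ← neg_smul]
    exact Submodule.mem_span_pair.2 ⟨_, _, rfl⟩
  have hs₁a : s₁.eval a = 0 := by
    rw [hs₁, eval_sub, eval_smul, eval_smul, smul_eq_mul, smul_eq_mul]; ring
  have hs₁0 : s₁ ≠ 0 := by
    intro h0
    have hFG : G.eval a • F = F.eval a • G := sub_eq_zero.1 h0
    have h1 : C (G.eval a) * W = 0 := by
      have := wronskian_comb F G (G.eval a) 0 0 1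
      simp only [zero_smul, add_zero, zero_add, one_smul, mul_one, mul_zero, sub_zero] at this
      rw [← this, hFG]
      have := wronskian_comb F G 0 (F.eval a) 0 1
      simp only [zero_smul, zero_add, one_smul, mul_one, mul_zero, sub_self, map_zero,
        zero_mul] at this
      exact this
    have h2 : C (F.eval a) * W = 0 := by
      have := wronskian_comb F G 1 0 0 (F.eval a)
      simp only [zero_smul, add_zero, zero_add, one_smul, one_mul, mul_zero, sub_zero] at this
      rw [← this, ← hFG]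
      have := wronskian_comb F G 1 0 (G.eval a) 0
      simp only [zero_smul, add_zero, one_smul, mul_zero, zero_mul, sub_self, map_zero] at this
      exact this
    have hG0 : G.eval a = 0 := by
      rcases mul_eq_zero.1 h1 with h | h
      · exact C_eq_zero.1 h
      · exact absurd h hW
    have hF0 : F.eval a = 0 := by
      rcases mul_eq_zero.1 h2 with h | h
      · exact C_eq_zero.1 h
      · exact absurd h hW
    apply hs₀a
    rw [← hs₀, eval_add, eval_smul, eval_smul, hF0, hG0, smul_zero, smul_zero, add_zero]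
  have hr1 : 0 < s₁.rootMultiplicity a := (rootMultiplicity_pos hs₁0).2 hs₁a
  obtain ⟨r, hr⟩ := Nat.exists_eq_succ_of_ne_zero hr1.ne'
  obtain ⟨c, hc, h, B, hha, hcW, hBa⟩ := hdiv s₁ hs₁V hs₁0 r hr
  have hrμ : r ≤ μ := hCW c hc r ⟨B, hcW⟩
  by_cases hrk : ((r + 1 : ℕ) : k) = 0
  · -- impossible
    exfalso
    have hBa0 : B.eval a = 0 := by rw [hBa, hrk, zero_mul]
    obtain ⟨B', hB'⟩ := dvd_iff_isRoot.2 hBa0
    have hdvd : (X - C a) ^ (r + 1) ∣ C c * W := ⟨B', by rw [hcW, hB', pow_succ]; ring⟩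
    have h1 : r + 1 ≤ μ := hCW c hc (r + 1) hdvd
    have h2 : p ∣ r + 1 := (CharP.cast_eq_zero_iff k p (r + 1)).1 hrk
    rcases hp with hp0 | hlt
    · rw [hp0, zero_dvd_iff] at h2
      omega
    · have h3 : p ≤ r + 1 := Nat.le_of_dvd (Nat.succ_pos r) h2
      omega
  · have hBa0 : B.eval a ≠ 0 := by
      rw [hBa]
      exact mul_ne_zero hrk (mul_ne_zero hs₀a hha)
    have hμr : μ ≤ r := by
      by_contra hlt
      push Not at hlt
      have hdvdW : (X - C a) ^ (r + 1) ∣ W := by
        rw [← le_rootMultiplicity_iff hW]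
        exact hlt
      have hdvd : (X - C a) ^ (r + 1) ∣ (X - C a) ^ r * B := by
        rw [← hcW]
        exact Dvd.dvd.mul_left hdvdW _
      rw [pow_succ] at hdvd
      have hne : (X - C a) ^ r ≠ 0 := pow_ne_zero _ (X_sub_C_ne_zero a)
      have := (mul_dvd_mul_iff_left hne).1 hdvd
      exact hBa0 (dvd_iff_isRoot.1 this)
    have hre : r + 1 = e := by omega
    refine ⟨⟨⟨s₁, hs₁V, hs₁0, ?_⟩, hupper⟩, ?_⟩
    · rw [hr]; omega
    · intro hpe
      apply hrk
      rw [hre]
      exact (CharP.cast_eq_zero_iff k p e).2 hpe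

end Groth.Agent.Lib.Helper24.Poly
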